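import Cfsg.Agent.H527.C3.Fam

/-!
# S1920, classical groups, section 4: the centralizer of `NN` (helper527)

`Full.E_same` : the projection of an eigenvector with the character of `w` on the span of `NN w` lies in `⟨w, J w⟩`.
`Full.comm_of_distinct` : if the vectors of `S` lie in different orbits of characters, the centralizer of `NN` is commutative.
`Full.twist` : `S = {v₁, v₂}` with the same character: `g τ = D τ g`, `D ∈ K[J]`, `τ = T R`.
-/

set_option autoImplicit false

open Subgroup

namespace Cfsg.Agent.H527.C3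

variable {K W : Type*} [Field K] [AddCommGroup W] [Module K W]

/-- the isometries commuting with `NN` -/
def cen (h : LinearMap.BilinForm K W) (NN : Subgroup (Module.End K W)ˣ) : Subgroup (Module.End K W)ˣ :=
  isoms h ⊓ centralizer (NN : Set (Module.End K W)ˣ)

theorem mem_cen {h : LinearMap.BilinForm K W} {NN : Subgroup (Module.End K W)ˣ} {g : (Module.End K W)ˣ} :
    g ∈ cen h NN ↔ g ∈ isoms h ∧ ∀ n ∈ NN, n * g = g * n := by
  rw [cen, mem_inf, mem_centralizer_iff]
  rfl

namespace Full

variable {h : LinearMap.BilinForm K W} {NN : Subgroup (Module.End K W)ˣ} [Fintype ↥NN] {J : (Module.End K W)ˣ}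
variable {A : Subgroup (Module.End K W)ˣ} {S : Finset W} {c : (Module.End K W)ˣ → K}

/-- eigenvectors with different characters are orthogonal -/
theorem orth_of_not_same (F : Full h NN J A S c) {x y : W} (hx : Eig A x) (hy : Eig A y) (hxy : ¬ Dat.Same F.M x y) :
    h x y = 0 := by
  have h1 : ∃ a ∈ Dat.inv1 F.M, ¬ ((a • x = x ∧ a • y = y) ∨ (a • x = -x ∧ a • y = -y)) := by
    by_contra hcon
    push Not at hcon
    exact hxy fun a ha => by
      by_contra h2
      exact h2 (by simpa only [not_or, not_and] using hcon a ha)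
  obtain ⟨a, ha, hn⟩ := h1
  have h2 : h (a • x) (a • y) = h x y := F.D.iso (F.M.le ha.1) x y
  rcases hx a ha.1 ha.2 with h3 | h3
  · rcases hy a ha.1 ha.2 with h4 | h4
    · exact absurd (Or.inl ⟨h3, h4⟩) hn
    · rw [h3, h4, map_neg] at h2
      have h5 : (2 : K) * h x y = 0 := by linear_combination -h2
      exact (mul_eq_zero.1 h5).resolve_left F.D.two
  · rcases hy a ha.1 ha.2 with h4 | h4
    · rw [h3, h4, map_neg, LinearMap.neg_apply] at h2
      have h5 : (2 : K) * h x y = 0 := by linear_combination -h2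
      exact (mul_eq_zero.1 h5).resolve_left F.D.two
    · exact absurd (Or.inr ⟨h3, h4⟩) hn

/-- `m v` is an eigenvector -/
theorem eig_smul (F : Full h NN J A S c) {v : W} (hv : Eig A v) {m : (Module.End K W)ˣ} (hm : m ∈ NN) :
    Eig A (m • v) := by
  intro a ha ha1
  rcases F.D.comm a (F.M.le ha) m hm with h1 | h1
  · rcases hv a ha ha1 with h2 | h2
    · left; rw [← mul_smul, h1, mul_smul, h2]
    · right; rw [← mul_smul, h1, mul_smul, h2, smul_neg]
  · rcases hv a ha ha1 with h2 | h2
    · right; rw [← mul_smul, h1, Units.neg_smul, mul_smul, h2]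
    · left; rw [← mul_smul, h1, Units.neg_smul, mul_smul, h2, smul_neg, neg_neg]

theorem same_symm (F : Full h NN J A S c) {x y : W} (hxy : Dat.Same F.M x y) : Dat.Same F.M y x := by
  intro a ha
  rcases hxy a ha with ⟨h1, h2⟩ | ⟨h1, h2⟩
  · exact Or.inl ⟨h2, h1⟩
  · exact Or.inr ⟨h2, h1⟩

theorem same_comb (F : Full h NN J A S c) {w u : W} (hwu : Dat.Same F.M w u) (x y : K) :
    Dat.Same F.M w (u - x • w - y • J • w) := by
  intro a ha
  have hc : a • J • w = J • a • w := by rw [← mul_smul, F.M.comm a ha.1 J F.M.J_mem, mul_smul]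
  have h2 : a • (u - x • w - y • J • w) = a • u - x • a • w - y • J • a • w := by
    rw [smul_sub, smul_sub, smul_comm a x, smul_comm a y, hc]
  rcases hwu a ha with ⟨h3, h4⟩ | ⟨h3, h4⟩
  · exact Or.inl ⟨h3, by rw [h2, h3, h4]⟩
  · right
    refine ⟨h3, ?_⟩
    rw [h2, h3, h4, smul_neg, smul_neg, smul_neg]
    abel

/-- the projection of an eigenvector with the same character -/
theorem E_same (F : Full h NN J A S c) {w u : W} (hw : w ∈ S) (hwu : Dat.Same F.M w u) :
    F.E w u = h w u • w + h (J • w) u • J • w := by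
  have hJw : h (J • w) w = 0 := F.D.hJ_self w
  have hww : h w w = 1 := F.Y.one w hw
  have hwJ : h w (J • w) = 0 := by rw [F.D.sym]; exact hJw
  have hJJ : h (J • w) (J • w) = 1 := by rw [F.D.hJ]; exact hww
  have hEw : F.E w w = w := by
    have := F.E_self hw (one_mem NN)
    rwa [one_smul] at this
  have hEJ : F.E w (J • w) = J • w := F.E_self hw F.D.J_mem
  have key : F.E w (u - h w u • w - h (J • w) u • J • w) = 0 := by
    have hsame := F.same_comb hwu (h w u) (h (J • w) u)
    have z1 : h w (u - h w u • w - h (J • w) u • J • w) = 0 := by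
      rw [map_sub, map_sub, LinearMap.map_smul, LinearMap.map_smul, hww, hwJ, smul_eq_mul, smul_eq_mul]; ring
    have z2 : h (J • w) (u - h w u • w - h (J • w) u • J • w) = 0 := by
      rw [map_sub, map_sub, LinearMap.map_smul, LinearMap.map_smul, hJw, hJJ, smul_eq_mul, smul_eq_mul]; ring
    generalize u - h w u • w - h (J • w) u • J • w = u' at hsame z1 z2
    have hz : ∀ n ∈ NN, h (n • w) u' = 0 := by
      intro n hn
      by_cases hA : n ∈ A
      · rcases F.D.sq n hn with h1 | h1
        · rcases F.Y.eig w hw n hA h1 with h2 | h2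
          · rw [h2, z1]
          · rw [h2, map_neg, LinearMap.neg_apply, z1, neg_zero]
        · have h3 : (J * n) * (J * n) = 1 := by
            calc J * n * (J * n) = J * (n * J) * n := by group
              _ = J * (J * n) * n := by rw [F.M.comm n hA J F.M.J_mem]
              _ = (J * J) * (n * n) := by group
              _ = 1 := by rw [F.D.J_sq, h1]; simp
          have h7 : ∀ y : W, (J * n) • w = y → n • w = -(J • y) := by
            intro y hy
            rw [← hy, mul_smul, F.D.JJ, neg_neg]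
          rcases F.Y.eig w hw (J * n) (mul_mem F.M.J_mem hA) h3 with h4 | h4
          · rw [h7 _ h4, map_neg, LinearMap.neg_apply, z2, neg_zero]
          · rw [h7 _ h4, smul_neg, neg_neg, z2]
      · obtain ⟨a, ha, ha1, han⟩ := F.D.anti F.M hn hA
        have h2 : a • n • w = -(n • a • w) := by
          rw [← mul_smul, han, Units.neg_smul, mul_smul]
        by_cases hu0 : u' = 0
        · rw [hu0, map_zero]
        refine F.orth_of_not_same (F.eig_smul (F.Y.eig w hw) hn) (fun b hb hb1 => ?_) fun hs => ?_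
        · rcases hsame b ⟨hb, hb1⟩ with ⟨_, h4⟩ | ⟨_, h4⟩
          · exact Or.inl h4
          · exact Or.inr h4
        · have hnw : n • w ≠ 0 := by
            intro h0
            have : w = 0 := by
              have h5 : n⁻¹ • n • w = n⁻¹ • (0 : W) := by rw [h0]
              rwa [inv_smul_smul, smul_zero] at h5
            rw [this, map_zero] at hww
            exact zero_ne_one hww
          have hu'0 : ∀ x : W, x = -x → x = 0 := fun x hx => by
            have h5 : (2 : K) • x = 0 := by rw [two_smul]; nth_rewrite 1 [hx]; exact neg_add_cancel x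
            exact (smul_eq_zero.1 h5).resolve_left F.D.two
          rcases hsame a ⟨ha, ha1⟩ with ⟨h3, h4⟩ | ⟨h3, h4⟩
          · rcases hs a ⟨ha, ha1⟩ with ⟨h5, h6⟩ | ⟨h5, h6⟩
            · rw [h2, h3] at h5
              exact hnw (hu'0 _ h5.symm)
            · exact hu0 (hu'0 _ (h4.symm.trans h6))
          · rcases hs a ⟨ha, ha1⟩ with ⟨h5, h6⟩ | ⟨h5, h6⟩
            · exact hu0 (hu'0 _ (h6.symm.trans h4))
            · rw [h2, h3, smul_neg, neg_neg] at h5
              exact hnw (hu'0 _ h5)
    have h1 := F.D.Tr_zero (fun _ => (1 : K)) (x := w) (y := w) (w := u') hz (one_mem NN)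
    rw [one_smul] at h1
    rw [E, op, LinearMap.smul_apply, h1, smul_zero]
  rw [map_sub, map_sub, LinearMap.map_smul, LinearMap.map_smul, hEw, hEJ, sub_sub, sub_eq_zero] at key
  exact key

/-- the projection of an eigenvector of a different orbit vanishes -/
theorem E_not_same (F : Full h NN J A S c) {w u : W} (hw : w ∈ S) (hu : Eig A u)
    (hwu : ∀ n ∈ NN, ¬ Dat.Same F.M (n • w) u) : F.E w u = 0 := by
  have h1 := F.D.Tr_zero (fun _ => (1 : K)) (x := w) (y := w) (w := u)
    (fun n hn => F.orth_of_not_same (F.eig_smul (F.Y.eig w hw) hn) hu (hwu n hn)) (one_mem NN)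
  rw [one_smul] at h1
  rw [E, op, LinearMap.smul_apply, h1, smul_zero]

theorem cen_same (F : Full h NN J A S c) {g : (Module.End K W)ˣ} (hg : g ∈ cen h NN) {v : W} (hv : v ∈ S) :
    Dat.Same F.M v (g • v) := by
  intro a ha
  have h1 : a • g • v = g • a • v := by
    rw [← mul_smul, (mem_cen.1 hg).2 a (F.M.le ha.1), mul_smul]
  rcases F.Y.eig v hv a ha.1 ha.2 with h2 | h2
  · exact Or.inl ⟨h2, by rw [h1, h2]⟩
  · exact Or.inr ⟨h2, by rw [h1, h2, smul_neg]⟩

theorem same_trans (F : Full h NN J A S c) {x y z : W} (hxy : Dat.Same F.M x y) (hyz : Dat.Same F.M y z)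
    (hy : y ≠ 0) : Dat.Same F.M x z := by
  have hu'0 : ∀ x : W, x = -x → x = 0 := fun x hx => by
    have h5 : (2 : K) • x = 0 := by rw [two_smul]; nth_rewrite 1 [hx]; exact neg_add_cancel x
    exact (smul_eq_zero.1 h5).resolve_left F.D.two
  intro a ha
  rcases hxy a ha with ⟨h1, h2⟩ | ⟨h1, h2⟩
  · rcases hyz a ha with ⟨h3, h4⟩ | ⟨h3, h4⟩
    · exact Or.inl ⟨h1, h4⟩
    · exact absurd (hu'0 _ (h2.symm.trans h3)) hy
  · rcases hyz a ha with ⟨h3, h4⟩ | ⟨h3, h4⟩
    · exact absurd (hu'0 _ (h3.symm.trans h2)) hy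
    · exact Or.inr ⟨h1, h4⟩

theorem ne_zero (F : Full h NN J A S c) {v : W} (hv : v ∈ S) : v ≠ 0 := by
  intro h0
  have h1 := F.Y.one v hv
  rw [h0, map_zero] at h1
  exact zero_ne_one h1

theorem smul_ne {v : W} (hv : v ≠ 0) (g : (Module.End K W)ˣ) : g • v ≠ 0 := by
  intro h0
  have h5 : g⁻¹ • g • v = g⁻¹ • (0 : W) := by rw [h0]
  rw [inv_smul_smul, smul_zero] at h5
  exact hv h5

theorem sum_E (F : Full h NN J A S c) (u : W) : ∑ v ∈ S, F.E v u = u := by
  have h1 := congrArg (fun f : Module.End K W => f u) F.E_sum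
  simpa [LinearMap.sum_apply] using h1

/-- **different orbits: the centralizer is commutative** -/
theorem comm_of_distinct (F : Full h NN J A S c)
    (hd : ∀ v ∈ S, ∀ w ∈ S, v ≠ w → ∀ n ∈ NN, ¬ Dat.Same F.M (n • w) v) :
    ∀ g ∈ cen h NN, ∀ g' ∈ cen h NN, g * g' = g' * g := by
  classical
  have key : ∀ g ∈ cen h NN, ∀ v ∈ S, ∃ x y : K, g • v = x • v + y • J • v := by
    intro g hg v hv
    have hs := F.cen_same hg hv
    have hEg : Eig A (g • v) := fun a ha ha1 => by
      rcases hs a ⟨ha, ha1⟩ with ⟨_, h4⟩ | ⟨_, h4⟩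
      · exact Or.inl h4
      · exact Or.inr h4
    have h1 := F.sum_E (g • v)
    rw [Finset.sum_eq_single v] at h1
    · rw [F.E_same hv hs] at h1
      exact ⟨_, _, h1.symm⟩
    · intro w hw hwv
      refine F.E_not_same hw hEg fun n hn hs' => ?_
      exact hd v hv w hw (Ne.symm hwv) n hn (F.same_trans hs' (F.same_symm hs) (smul_ne (F.ne_zero hv) g))
    · exact fun h => absurd hv h
  intro g hg g' hg'
  have hJ : ∀ g ∈ cen h NN, ∀ u : W, g • J • u = J • g • u := fun g hg u => by
    rw [← mul_smul, ← (mem_cen.1 hg).2 J F.D.J_mem, mul_smul]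
  refine Units.ext (F.ext fun v hv m hm => ?_)
  change (g * g') • m • v = (g' * g) • m • v
  have hm' : ∀ g ∈ cen h NN, ∀ u : W, g • m • u = m • g • u := fun g hg u => by
    rw [← mul_smul, ← (mem_cen.1 hg).2 m hm, mul_smul]
  rw [mul_smul, mul_smul, hm' g' hg', hm' g hg, hm' g hg, hm' g' hg']
  congr 1
  obtain ⟨x, y, hxy⟩ := key g hg v hv
  obtain ⟨x', y', hxy'⟩ := key g' hg' v hv
  rw [hxy', hxy, smul_add, smul_comm g x', smul_comm g y', hJ g hg, smul_add, smul_comm g' x, smul_comm g' y,
    hJ g' hg', hxy, hxy']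
  simp only [smul_add, smul_smul]
  have hJc : ∀ (k : K) (u : W), J • k • u = k • J • u := fun k u => smul_comm J k u
  simp only [hJc, F.D.JJ, smul_smul, smul_neg]
  rw [mul_comm x x', mul_comm x y', mul_comm y x', mul_comm y y']
  abel

end Full

end Cfsg.Agent.H527.C3
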