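import Cfsg.Agent.H527.C3.Sys

/-!
# S1920, classical groups, section 4: the operators attached to a system (helper527)

`Full h NN J A S c` : everything chosen.  `Full.ext` : two linear maps which agree on all `m v` are equal.
`Full.E v` : the projection on the span of `NN v`.  `Full.T` : the antilinear isometry.
-/

set_option autoImplicit false

open Subgroup

namespace Cfsg.Agent.H527.C3

variable {K W : Type*} [Field K] [AddCommGroup W] [Module K W]

/-- everything chosen -/
structure Full (h : LinearMap.BilinForm K W) (NN : Subgroup (Module.End K W)ˣ) [Fintype ↥NN]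
    (J : (Module.End K W)ˣ) (A : Subgroup (Module.End K W)ˣ) (S : Finset W) (c : (Module.End K W)ˣ → K) : Prop where
  D : Dat h NN J
  M : MaxAb NN J A
  Y : Dat.Sys h NN A S
  exp : ∀ u : W, ∑ w ∈ S, Dat.Tr h NN (fun _ => (1 : K)) w w u = Dat.kap K M • u
  kap : Dat.kap K M ≠ 0
  sg : Dat.Sg NN c
  cJ : c J = -1
  cA : ∀ a ∈ Dat.inv1 M, c a = 1

theorem exists_full [Finite K] [Finite W] [Nontrivial W] {h : LinearMap.BilinForm K W}
    {NN : Subgroup (Module.End K W)ˣ} [Fintype ↥NN] {J : (Module.End K W)ˣ} (D : Dat h NN J) :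
    ∃ (A : Subgroup (Module.End K W)ˣ) (S : Finset W) (c : (Module.End K W)ˣ → K), Full h NN J A S c := by
  have hfE : Finite (Module.End K W) := Finite.of_injective (fun f => (f : W → W)) DFunLike.coe_injective
  obtain ⟨A, M⟩ := D.exists_A
  obtain ⟨S, Y, hS⟩ := D.exists_sys M
  obtain ⟨c, hc, hcJ, hcA⟩ := D.exists_sign M
  exact ⟨A, S, c, ⟨D, M, Y, hS, D.kap_ne M, hc, hcJ, hcA⟩⟩

namespace Full

variable {h : LinearMap.BilinForm K W} {NN : Subgroup (Module.End K W)ˣ} [Fintype ↥NN] {J : (Module.End K W)ˣ}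
variable {A : Subgroup (Module.End K W)ˣ} {S : Finset W} {c : (Module.End K W)ˣ → K}

/-- two linear maps which agree on all `m v` are equal -/
theorem ext {X : Type*} [AddCommGroup X] [Module K X] (F : Full h NN J A S c) {f g : W →ₗ[K] X}
    (hfg : ∀ v ∈ S, ∀ m ∈ NN, f (m • v) = g (m • v)) : f = g := by
  refine LinearMap.ext fun u => ?_
  have h1 : Dat.kap K F.M • f u = Dat.kap K F.M • g u := by
    rw [← LinearMap.map_smul, ← LinearMap.map_smul, ← F.exp u, map_sum, map_sum]
    refine Finset.sum_congr rfl fun v hv => ?_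
    rw [Dat.Tr_apply, map_sum, map_sum]
    refine Finset.sum_congr rfl fun n _ => ?_
    rw [LinearMap.map_smul, LinearMap.map_smul, hfg v hv n n.2]
  exact smul_right_injective X F.kap h1

/-- `κ⁻¹ Tr c x y` -/
noncomputable def op (F : Full h NN J A S c) (d : (Module.End K W)ˣ → K) (x y : W) : Module.End K W :=
  (Dat.kap K F.M)⁻¹ • Dat.Tr h NN d x y

theorem op_self (F : Full h NN J A S c) {d : (Module.End K W)ˣ → K} (hd : Dat.Sg NN d)
    (hdA : ∀ a ∈ Dat.inv1 F.M, d a = 1) {v w : W} (hv : v ∈ S) (hvw : Dat.Same F.M v w)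
    {m : (Module.End K W)ˣ} (hm : m ∈ NN) : F.op d w v (m • v) = d m • (m • w) := by
  rw [op, LinearMap.smul_apply, F.D.Tr_self' F.M hd hdA (F.Y.eig v hv) (F.Y.one v hv) hvw hm, smul_smul,
    inv_mul_cancel₀ F.kap, one_smul]

theorem op_other (F : Full h NN J A S c) (d : (Module.End K W)ˣ → K) {v w x : W} (hv : v ∈ S) (hw : w ∈ S)
    (hvw : v ≠ w) {m : (Module.End K W)ˣ} (hm : m ∈ NN) : F.op d x v (m • w) = 0 := by
  rw [op, LinearMap.smul_apply, F.D.Tr_zero d (F.Y.orth v hv w hw hvw) hm, smul_zero]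

theorem op_adj (F : Full h NN J A S c) (d : (Module.End K W)ˣ → K) (x y u w : W) :
    h (F.op d x y u) w = h u (F.op d y x w) := by
  rw [op, op, LinearMap.smul_apply, LinearMap.smul_apply, LinearMap.map_smul, LinearMap.smul_apply,
    LinearMap.map_smul, F.D.Tr_adj]

theorem op_smul (F : Full h NN J A S c) {d : (Module.End K W)ˣ → K} (hd : Dat.Sg NN d) (x y : W)
    {m : (Module.End K W)ˣ} (hm : m ∈ NN) (u : W) : F.op d x y (m • u) = d m • (m • F.op d x y u) := by
  rw [op, LinearMap.smul_apply, LinearMap.smul_apply, F.D.Tr_smul hd _ _ hm, smul_comm (Dat.kap K F.M)⁻¹ (d m),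
    smul_comm (Dat.kap K F.M)⁻¹ m]

/-- the projection on the span of `NN v` -/
noncomputable def E (F : Full h NN J A S c) (v : W) : Module.End K W := F.op (fun _ => 1) v v

theorem E_self (F : Full h NN J A S c) {v : W} (hv : v ∈ S) {m : (Module.End K W)ˣ} (hm : m ∈ NN) :
    F.E v (m • v) = m • v := by
  rw [E, F.op_self (Dat.Sg.one NN) (fun _ _ => rfl) hv (Dat.Same.refl F.M (F.Y.eig v hv)) hm, one_smul]

theorem E_other (F : Full h NN J A S c) {v w : W} (hv : v ∈ S) (hw : w ∈ S) (hvw : v ≠ w)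
    {m : (Module.End K W)ˣ} (hm : m ∈ NN) : F.E v (m • w) = 0 := F.op_other _ hv hw hvw hm

theorem E_adj (F : Full h NN J A S c) (v u w : W) : h (F.E v u) w = h u (F.E v w) := F.op_adj _ _ _ _ _

theorem E_smul (F : Full h NN J A S c) (v : W) {m : (Module.End K W)ˣ} (hm : m ∈ NN) (u : W) :
    F.E v (m • u) = m • F.E v u := by
  rw [E, F.op_smul (Dat.Sg.one NN) _ _ hm, one_smul]

theorem E_idem (F : Full h NN J A S c) {v : W} (hv : v ∈ S) : F.E v * F.E v = F.E v := by
  classical
  refine F.ext fun w hw m hm => ?_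
  rw [Module.End.mul_apply]
  by_cases h1 : v = w
  · subst h1; rw [F.E_self hv hm, F.E_self hv hm]
  · rw [F.E_other hv hw h1 hm, map_zero]

theorem E_orth (F : Full h NN J A S c) {v v' : W} (hv : v ∈ S) (hv' : v' ∈ S) (hne : v ≠ v') :
    F.E v * F.E v' = 0 := by
  classical
  refine F.ext fun w hw m hm => ?_
  rw [Module.End.mul_apply, LinearMap.zero_apply]
  by_cases h1 : v' = w
  · subst h1; rw [F.E_self hv' hm, F.E_other hv hv' hne hm]
  · rw [F.E_other hv' hw h1 hm, map_zero]

theorem E_sum (F : Full h NN J A S c) : ∑ v ∈ S, F.E v = 1 := by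
  refine LinearMap.ext fun u => ?_
  rw [LinearMap.sum_apply, Module.End.one_apply]
  have h1 : ∑ v ∈ S, F.E v u = (Dat.kap K F.M)⁻¹ • ∑ v ∈ S, Dat.Tr h NN (fun _ => (1 : K)) v v u := by
    rw [Finset.smul_sum]; rfl
  rw [h1, F.exp, smul_smul, inv_mul_cancel₀ F.kap, one_smul]

/-- the antilinear isometry -/
noncomputable def T (F : Full h NN J A S c) : Module.End K W := ∑ v ∈ S, F.op c v v

theorem T_self (F : Full h NN J A S c) {v : W} (hv : v ∈ S) {m : (Module.End K W)ˣ} (hm : m ∈ NN) :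
    F.T (m • v) = c m • m • v := by
  classical
  rw [T, LinearMap.sum_apply, Finset.sum_eq_single v]
  · exact F.op_self F.sg F.cA hv (Dat.Same.refl F.M (F.Y.eig v hv)) hm
  · intro w hw hwv
    exact F.op_other _ hw hv hwv hm
  · exact fun h1 => absurd hv h1

theorem T_adj (F : Full h NN J A S c) (u w : W) : h (F.T u) w = h u (F.T w) := by
  rw [T, LinearMap.sum_apply, LinearMap.sum_apply, map_sum, LinearMap.sum_apply, map_sum]
  exact Finset.sum_congr rfl fun v _ => F.op_adj _ _ _ _ _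

theorem T_smul (F : Full h NN J A S c) {m : (Module.End K W)ˣ} (hm : m ∈ NN) (u : W) :
    F.T (m • u) = c m • (m • F.T u) := by
  rw [T, LinearMap.sum_apply, LinearMap.sum_apply, Finset.smul_sum, Finset.smul_sum]
  exact Finset.sum_congr rfl fun v _ => F.op_smul F.sg _ _ hm _

theorem T_sq (F : Full h NN J A S c) : F.T * F.T = 1 := by
  refine F.ext fun w hw m hm => ?_
  rw [Module.End.mul_apply, F.T_self hw hm, LinearMap.map_smul, F.T_self hw hm, smul_smul, F.sg.sq hm, one_smul,
    Module.End.one_apply]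

/-- `T` as a unit -/
noncomputable def Tu (F : Full h NN J A S c) : (Module.End K W)ˣ := ⟨F.T, F.T, F.T_sq, F.T_sq⟩

theorem Tu_smul (F : Full h NN J A S c) (u : W) : F.Tu • u = F.T u := rfl

theorem Tu_iso (F : Full h NN J A S c) : F.Tu ∈ isoms h := by
  intro u v
  rw [Tu_smul, Tu_smul, F.T_adj, ← Module.End.mul_apply, F.T_sq, Module.End.one_apply]

theorem Tu_sq (F : Full h NN J A S c) : F.Tu * F.Tu = 1 := Units.ext F.T_sq

/-- commutation with `NN` -/
theorem Tu_comm (F : Full h NN J A S c) {m : (Module.End K W)ˣ} (hm : m ∈ NN) :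
    (c m = 1 ∧ F.Tu * m = m * F.Tu) ∨ (c m = -1 ∧ F.Tu * m = -(m * F.Tu)) := by
  rcases F.sg.val m hm with h1 | h1
  · left
    refine ⟨h1, Units.ext (LinearMap.ext fun u => ?_)⟩
    have h2 := F.T_smul hm u
    rw [h1, one_smul] at h2
    exact h2
  · right
    refine ⟨h1, Units.ext (LinearMap.ext fun u => ?_)⟩
    have h2 := F.T_smul hm u
    rw [h1, neg_smul, one_smul] at h2
    exact h2

end Full

end Cfsg.Agent.H527.C3
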