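import Mathlib

/-!
# S1920, classical groups, section 4: isometries (helper527)

`isoms h` : the isometry group of a bilinear form, as a group of units of `Module.End K W`.
`Dat h NN J` : `h` symmetric non-degenerate, `NN ≤ isoms h` finite, squares and commutators `± 1`, `J ∈ NN` central,
`J² = -1`.
-/

set_option autoImplicit false

open Subgroup

namespace Cfsg.Agent.H527.C3

variable {K W : Type*} [Field K] [AddCommGroup W] [Module K W]

/-- The isometry group of `h`, inside the units of the endomorphism ring. -/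
def isoms (h : LinearMap.BilinForm K W) : Subgroup (Module.End K W)ˣ where
  carrier := {g | ∀ u v : W, h (g • u) (g • v) = h u v}
  mul_mem' := by
    intro a b ha hb u v
    rw [mul_smul, mul_smul, ha, hb]
  one_mem' := by
    intro u v
    rw [one_smul, one_smul]
  inv_mem' := by
    intro a ha u v
    have h1 := ha (a⁻¹ • u) (a⁻¹ • v)
    rw [smul_inv_smul, smul_inv_smul] at h1
    exact h1.symm

theorem mem_isoms {h : LinearMap.BilinForm K W} {g : (Module.End K W)ˣ} :
    g ∈ isoms h ↔ ∀ u v : W, h (g • u) (g • v) = h u v := Iff.rfl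

/-- The situation of section 4. -/
structure Dat (h : LinearMap.BilinForm K W) (NN : Subgroup (Module.End K W)ˣ) (J : (Module.End K W)ˣ) : Prop where
  two : (2 : K) ≠ 0
  sym : ∀ u v, h u v = h v u
  nd : ∀ u, (∀ v, h u v = 0) → u = 0
  iso : NN ≤ isoms h
  neg : (-1 : (Module.End K W)ˣ) ∈ NN
  J_mem : J ∈ NN
  J_sq : J * J = -1
  sq : ∀ n ∈ NN, n * n = 1 ∨ n * n = -1
  comm : ∀ n ∈ NN, ∀ m ∈ NN, n * m = m * n ∨ n * m = -(m * n)
  cen : ∀ n ∈ NN, n * J = J * n

/-- `A` is a maximal abelian subgroup of `NN` containing `J`. -/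
structure MaxAb (NN : Subgroup (Module.End K W)ˣ) (J : (Module.End K W)ˣ) (A : Subgroup (Module.End K W)ˣ) : Prop where
  le : A ≤ NN
  J_mem : J ∈ A
  comm : ∀ a ∈ A, ∀ b ∈ A, a * b = b * a
  max : ∀ n ∈ NN, (∀ a ∈ A, a * n = n * a) → n ∈ A

/-- `v` is a common eigenvector of the involutions of `A`. -/
def Eig (A : Subgroup (Module.End K W)ˣ) (v : W) : Prop := ∀ a ∈ A, a * a = 1 → a • v = v ∨ a • v = -v

/-- The rank one operator `u ↦ h(y, u) x`. -/
def rk (h : LinearMap.BilinForm K W) (x y : W) : Module.End K W := (h y).smulRight x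

@[simp] theorem rk_apply (h : LinearMap.BilinForm K W) (x y u : W) : rk h x y u = h y u • x := rfl

namespace Dat

variable {h : LinearMap.BilinForm K W} {NN : Subgroup (Module.End K W)ˣ} {J : (Module.End K W)ˣ}

theorem hJ (D : Dat h NN J) (u v : W) : h (J • u) (J • v) = h u v := D.iso D.J_mem u v

theorem JJ (D : Dat h NN J) (u : W) : J • J • u = -u := by
  rw [← mul_smul, D.J_sq, Units.neg_smul, one_smul]

theorem hJl (D : Dat h NN J) (u v : W) : h (J • u) v = - h u (J • v) := by
  rw [← D.hJ u (J • v), D.JJ, map_neg, neg_neg]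

theorem hJ_self (D : Dat h NN J) (u : W) : h (J • u) u = 0 := by
  have h1 := D.hJl u u
  rw [D.sym u (J • u)] at h1
  have h2 : (2 : K) * h (J • u) u = 0 := by linear_combination h1
  exact (mul_eq_zero.1 h2).resolve_left D.two

/-- The maximal abelian subgroup. -/
theorem exists_A [Finite W] (D : Dat h NN J) : ∃ A : Subgroup (Module.End K W)ˣ, MaxAb NN J A := by
  classical
  have hfin : Finite (Module.End K W) := Finite.of_injective (fun f => (f : W → W)) DFunLike.coe_injective
  let s : Set (Subgroup (Module.End K W)ˣ) := {A | A ≤ NN ∧ J ∈ A ∧ ∀ a ∈ A, ∀ b ∈ A, a * b = b * a}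
  have hne : s.Nonempty := by
    refine ⟨zpowers J, ?_, mem_zpowers J, ?_⟩
    · rw [zpowers_le]; exact D.J_mem
    · rintro _ ⟨i, rfl⟩ _ ⟨j, rfl⟩
      exact ((Commute.refl J).zpow_zpow i j).eq
  obtain ⟨A, hA⟩ := s.toFinite.exists_maximal hne
  refine ⟨A, ⟨hA.prop.1, hA.prop.2.1, hA.prop.2.2, fun n hn hc => ?_⟩⟩
  have hle : A ≤ A ⊔ zpowers n := le_sup_left
  have h1 : A ⊔ zpowers n ≤ centralizer (A : Set (Module.End K W)ˣ) := by
    refine sup_le (fun a ha => ?_) ?_
    · rw [mem_centralizer_iff]
      exact fun b hb => hA.prop.2.2 b hb a ha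
    · rw [zpowers_le, mem_centralizer_iff]
      exact hc
  have h2 : A ⊔ zpowers n ≤ centralizer ({n} : Set (Module.End K W)ˣ) := by
    refine sup_le (fun a ha => ?_) ?_
    · rw [mem_centralizer_singleton_iff]
      exact hc a ha
    · rw [zpowers_le, mem_centralizer_singleton_iff]
  have h3 : A ⊔ zpowers n ≤ centralizer ((A ⊔ zpowers n : Subgroup (Module.End K W)ˣ) : Set (Module.End K W)ˣ) := by
    refine sup_le (fun a ha => ?_) ?_
    · rw [mem_centralizer_iff]
      exact fun b hb => (mem_centralizer_iff.1 (h1 hb) a ha).symm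
    · rw [zpowers_le, mem_centralizer_iff]
      exact fun b hb => mem_centralizer_singleton_iff.1 (h2 hb)
  have h4 : A ⊔ zpowers n ∈ s := by
    refine ⟨sup_le hA.prop.1 (by rw [zpowers_le]; exact hn), hle hA.prop.2.1, fun a ha b hb => ?_⟩
    exact mem_centralizer_iff.1 (h3 hb) a ha
  exact (hA.le_of_ge h4 hle) ((le_sup_right : zpowers n ≤ A ⊔ zpowers n) (mem_zpowers n))

variable {A : Subgroup (Module.End K W)ˣ}

theorem anti (D : Dat h NN J) (M : MaxAb NN J A) {n : (Module.End K W)ˣ} (hn : n ∈ NN) (hnA : n ∉ A) :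
    ∃ a ∈ A, a * a = 1 ∧ a * n = -(n * a) := by
  have h1 : ∃ a ∈ A, a * n ≠ n * a := by
    by_contra hcon
    push Not at hcon
    exact hnA (M.max n hn hcon)
  obtain ⟨a, ha, han⟩ := h1
  have h2 := (D.comm a (M.le ha) n hn).resolve_left han
  rcases D.sq a (M.le ha) with h3 | h3
  · exact ⟨a, ha, h3, h2⟩
  · refine ⟨J * a, mul_mem M.J_mem ha, ?_, ?_⟩
    · calc J * a * (J * a) = J * (a * J) * a := by group
        _ = J * (J * a) * a := by rw [M.comm a ha J M.J_mem]
        _ = (J * J) * (a * a) := by group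
        _ = 1 := by rw [D.J_sq, h3]; simp
    · calc J * a * n = J * (a * n) := by group
        _ = J * (-(n * a)) := by rw [h2]
        _ = -(J * n * a) := by rw [mul_neg, mul_assoc]
        _ = -(n * J * a) := by rw [D.cen n hn]
        _ = -(n * (J * a)) := by rw [mul_assoc]

/-- the value `h(n v, v)` vanishes unless `n` is an involution of `A` -/
theorem h_zero (D : Dat h NN J) (M : MaxAb NN J A) {v : W} (hv : Eig A v) {n : (Module.End K W)ˣ} (hn : n ∈ NN)
    (h1 : ¬ (n ∈ A ∧ n * n = 1)) : h (n • v) v = 0 := by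
  by_cases hA : n ∈ A
  · have h2 : n * n = -1 := (D.sq n hn).resolve_left fun h => h1 ⟨hA, h⟩
    have h3 : (J * n) * (J * n) = 1 := by
      calc J * n * (J * n) = J * (n * J) * n := by group
        _ = J * (J * n) * n := by rw [M.comm n hA J M.J_mem]
        _ = (J * J) * (n * n) := by group
        _ = 1 := by rw [D.J_sq, h2]; simp
    rcases hv (J * n) (mul_mem M.J_mem hA) h3 with h4 | h4
    · have h5 : n • v = -(J • v) := by
        have h6 : J • (J * n) • v = J • v := by rw [h4]
        rw [mul_smul, D.JJ] at h6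
        rw [← h6, neg_neg]
      rw [h5, map_neg, LinearMap.neg_apply, D.hJ_self, neg_zero]
    · have h5 : n • v = J • v := by
        have h6 : J • (J * n) • v = J • (-v) := by rw [h4]
        rw [mul_smul, D.JJ, smul_neg] at h6
        exact neg_injective h6
      rw [h5, D.hJ_self]
  · obtain ⟨a, ha, ha1, han⟩ := D.anti M hn hA
    have h2 : a • n • v = -(n • a • v) := by
      rw [← mul_smul, han, Units.neg_smul, mul_smul]
    have h3 : h (a • n • v) (a • v) = h (n • v) v := D.iso (M.le ha) _ _
    rw [h2] at h3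
    rcases hv a ha ha1 with h4 | h4
    · rw [h4, map_neg, LinearMap.neg_apply] at h3
      have h5 : (2 : K) * h (n • v) v = 0 := by linear_combination -h3
      exact (mul_eq_zero.1 h5).resolve_left D.two
    · rw [h4, smul_neg, neg_neg, map_neg] at h3
      have h5 : (2 : K) * h (n • v) v = 0 := by linear_combination -h3
      exact (mul_eq_zero.1 h5).resolve_left D.two

end Dat

end Cfsg.Agent.H527.C3
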