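import Cfsg.Agent.TitsThree.KSideO
import Cfsg.Agent.H415.C3.LKit
import Cfsg.Agent.H527.Co3.Asm
import Cfsg.Prelude.Def_LieTypeChar

/-!
# S1920: the orthogonal rows from the coordinate-free theorem (helper527)

`exists_lin` : a group isomorphic to `PΩ(Q)`, `Q` good, has the linear lift `E Q`.
`OmFalse` : the theorem for a good quadratic form in odd characteristic.
`row_odd_of`, `row_plus_of`, `row_minus_of` : the three rows.
-/

set_option autoImplicit false

open Subgroup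

namespace Cfsg.Agent.H527.C3.RowOm

open QuadraticMap
open Cfsg.Agent.LieClassical Cfsg.Agent.LieClassical.OrthCore Cfsg.Agent.LieClassical.OrthTrans
open Cfsg.Agent.LieClassical.OrthSimple Cfsg.Agent.LieClassical.OrthFinite Cfsg.Agent.LieClassical.OrthForms
open Cfsg.Agent.TitsThree.KSideO
open Cfsg.Agent.H415.C3 (Lin IsSc)
open Cfsg.Agent.H13.Co3 (CB)

theorem exists_lin {ι : Type} [Fintype ι] [DecidableEq ι] {F : Type*} [Field F] {Q : QuadraticForm F (ι → F)}
    (hG : Good Q) {q : (ι → F) → F} (hq : ⇑Q = q) {G : Type*} [Group G] (e : G ≃* Cfsg.POmega F q) :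
    ∃ π : ↥(E Q) →* G, Lin (E Q) π := by
  subst hq
  refine ⟨e.symm.toMonoidHom.comp (toPOmega hG), e.symm.surjective.comp (toPOmega_surjective hG), fun g => ?_⟩
  constructor
  · intro h
    have h1 : toPOmega hG g = 1 := e.symm.injective (h.trans (map_one e.symm).symm)
    exact scalar_of_center hG (center_of_toPOmega hG h1)
  · rintro ⟨c, hc⟩
    have h1 : g ∈ center ↥(E Q) := by
      rw [mem_center_iff]
      intro k
      refine Subtype.ext (LinearEquiv.ext fun v => ?_)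
      change (k : (ι → F) ≃ₗ[F] (ι → F)) ((g : (ι → F) ≃ₗ[F] (ι → F)) v) =
        (g : (ι → F) ≃ₗ[F] (ι → F)) ((k : (ι → F) ≃ₗ[F] (ι → F)) v)
      rw [hc, hc, LinearEquiv.map_smul]
    have h2 : toPOmega hG g = 1 := by
      refine (QuotientGroup.eq_one_iff (toOmega hG g)).2 ?_
      rw [mem_center_iff] at h1 ⊢
      intro x
      obtain ⟨y, rfl⟩ := (toOmega hG).surjective x
      rw [← map_mul, ← map_mul, h1]
    change e.symm (toPOmega hG g) = 1
    rw [h2, map_one]

universe u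

/-- The theorem for a good quadratic form in odd characteristic. -/
def OmFalse : Prop :=
  ∀ (G : Type u) [Group G] [Finite G] [IsSimpleGroup G] (ι : Type) [Fintype ι] [DecidableEq ι] (F : Type) [Field F]
    [Fintype F] (Q : QuadraticForm F (ι → F)), (2 : F) ≠ 0 → Good Q → ∀ (π : ↥(E Q) →* G), Lin (E Q) π →
    ∀ (P N0 : Subgroup G) (z s : G) (ψ : ↥(normalizer (P : Set G)) →* Equiv.Perm (Fin 6)), CB P N0 z s ψ → False

/-- The characteristic two case (`H738/C3/Char2Rows.false_of_lieTwo`). -/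
def TwoFalse : Prop :=
  ∀ (G : Type u) [Group G] [Finite G] [IsSimpleGroup G] (P N0 : Subgroup G) (z s : G)
    (ψ : ↥(normalizer (P : Set G)) →* Equiv.Perm (Fin 6)), CB P N0 z s ψ → IsLieTypeChar 2 G → False

theorem row_odd_of (H : OmFalse.{u}) : Cfsg.Agent.H527.Co3.Row.{u} @Cfsg.IsPOmegaOdd := by
  intro G _ _ _ hG P N0 z s ψ C
  obtain ⟨F, hF, hFf, m, hm, ho, ⟨e⟩⟩ := hG
  have h2 : (2 : F) ≠ 0 := by
    intro h0
    have hch : CharP F 2 := CharTwo.of_one_ne_zero_of_two_eq_zero one_ne_zero h0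
    obtain ⟨n, -, hn⟩ := FiniteField.card F 2
    rw [hn] at ho
    exact absurd ho (Nat.not_odd_iff_even.2 (Nat.even_pow.2 ⟨even_two, n.ne_zero⟩))
  have hg : Good (oddForm m F) := by
    apply good_of_finite (nondeg_oddForm m F h2)
    rw [Module.finrank_fintype_fun_eq_card, Fintype.card_sum, Fintype.card_sum, Fintype.card_fin,
      Fintype.card_unit]
    omega
  obtain ⟨π, hπ⟩ := exists_lin hg (coe_oddForm m F) e
  exact H G _ F _ h2 hg π hπ P N0 z s ψ C

theorem row_plus_of (H : OmFalse.{u}) (H2 : TwoFalse.{u}) : Cfsg.Agent.H527.Co3.Row.{u} @Cfsg.IsPOmegaPlus := by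
  intro G _ _ _ hG P N0 z s ψ C
  obtain ⟨F, hF, hFf, m, hm, ⟨e⟩⟩ := hG
  by_cases h2 : (2 : F) = 0
  · have hch : CharP F 2 := CharTwo.of_one_ne_zero_of_two_eq_zero one_ne_zero h2
    exact H2 G P N0 z s ψ C
      (Or.inr (Or.inr (Or.inr (Or.inr (Or.inl ⟨F, hF, hFf, hch, m, hm, ⟨e⟩⟩)))))
  have hg : Good (plusForm m F) := by
    apply good_of_finite (nondeg_plusForm m F)
    rw [Module.finrank_fintype_fun_eq_card, Fintype.card_sum, Fintype.card_fin]
    omega
  obtain ⟨π, hπ⟩ := exists_lin hg (coe_plusForm m F) e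
  exact H G _ F _ h2 hg π hπ P N0 z s ψ C

theorem row_minus_of (H : OmFalse.{u}) (H2 : TwoFalse.{u}) : Cfsg.Agent.H527.Co3.Row.{u} @Cfsg.IsPOmegaMinus := by
  intro G _ _ _ hG P N0 z s ψ C
  obtain ⟨F, hF, hFf, m, a, b, hm, hab, ⟨e⟩⟩ := hG
  by_cases h2 : (2 : F) = 0
  · have hch : CharP F 2 := CharTwo.of_one_ne_zero_of_two_eq_zero one_ne_zero h2
    exact H2 G P N0 z s ψ C
      (Or.inr (Or.inr (Or.inr (Or.inr (Or.inr (Or.inl ⟨F, hF, hFf, hch, m, a, b, hm, hab, ⟨e⟩⟩))))))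
  have hg : Good (minusForm (m - 1) F a b) := by
    apply good_of_finite (nondeg_minusForm (m - 1) F a b hab)
    rw [Module.finrank_fintype_fun_eq_card, Fintype.card_sum, Fintype.card_sum, Fintype.card_fin,
      Fintype.card_fin]
    omega
  obtain ⟨π, hπ⟩ := exists_lin hg (coe_minusForm (m - 1) F a b) e
  exact H G _ F _ h2 hg π hπ P N0 z s ψ C

end Cfsg.Agent.H527.C3.RowOm
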