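import Cfsg.Agent.H527.C3.Tr

/-!
# S1920, classical groups, section 4: orthonormal systems of eigenvectors (helper527)
-/

set_option autoImplicit false

open Subgroup

namespace Cfsg.Agent.H527.C3

/-- every element of a finite field of odd characteristic is a sum of two squares -/
theorem exists_two_sq {K : Type*} [Field K] [Finite K] (h2 : (2 : K) ≠ 0) (c : K) : ∃ x y : K, x ^ 2 + y ^ 2 = c := by
  classical
  have : Fintype K := Fintype.ofFinite K
  have hodd : Fintype.card K % 2 = 1 := by
    by_contra hcon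
    have h3 : Fintype.card K % 2 = 0 := by omega
    exact h2 (by
      have := FiniteField.even_card_iff_char_two.2 h3
      have h4 : ringChar K = 2 := this
      have h5 : ((2 : ℕ) : K) = 0 := by rw [← h4]; exact ringChar.Nat.cast_ringChar
      exact_mod_cast h5)
  obtain ⟨a, b, hab⟩ := FiniteField.exists_root_sum_quadratic (R := K) (f := Polynomial.X ^ 2)
    (g := Polynomial.X ^ 2 - Polynomial.C c) (by simp) (Polynomial.degree_X_pow_sub_C (by norm_num) c) hodd
  refine ⟨a, b, ?_⟩
  simp only [Polynomial.eval_pow, Polynomial.eval_X, Polynomial.eval_sub, Polynomial.eval_C] at hab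
  linear_combination hab

variable {K W : Type*} [Field K] [AddCommGroup W] [Module K W]

namespace Dat

variable {h : LinearMap.BilinForm K W} {NN : Subgroup (Module.End K W)ˣ} {J : (Module.End K W)ˣ}
variable {A : Subgroup (Module.End K W)ˣ}

/-- `J`-linear combinations of eigenvectors -/
theorem eig_comb (M : MaxAb NN J A) {v : W} (hv : Eig A v) (x y : K) : Eig A (x • v + y • J • v) := by
  intro a ha ha1
  have h1 : a • J • v = J • a • v := by rw [← mul_smul, M.comm a ha J M.J_mem, mul_smul]
  have h2 : a • (x • v + y • J • v) = x • a • v + y • J • a • v := by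
    rw [smul_add, smul_comm a x, smul_comm a y, h1]
  rcases hv a ha ha1 with h3 | h3
  · left; rw [h2, h3]
  · right; rw [h2, h3, smul_neg, smul_neg, smul_neg, neg_add]

theorem exists_eig [Finite W] [Finite K] (D : Dat h NN J) (M : MaxAb NN J A) (U : Submodule K W)
    (hU : ∀ n ∈ NN, ∀ u ∈ U, n • u ∈ U) (hne : ∃ u ∈ U, ∃ v ∈ U, h u v ≠ 0) :
    ∃ v ∈ U, Eig A v ∧ h v v = 1 := by
  classical
  have hfin : Finite (Module.End K W) := Finite.of_injective (fun f => (f : W → W)) DFunLike.coe_injective
  let S : Set (W × W) := {p | p.1 ∈ U ∧ p.2 ∈ U ∧ h p.1 p.2 ≠ 0}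
  let T : W × W → Set (Module.End K W)ˣ := fun p =>
    {a | a ∈ inv1 M ∧ ((a • p.1 = p.1 ∧ a • p.2 = p.2) ∨ (a • p.1 = -p.1 ∧ a • p.2 = -p.2))}
  obtain ⟨u, hu, v, hv, huv⟩ := hne
  obtain ⟨⟨u, v⟩, ⟨hu, hv, huv⟩, hmax⟩ := Set.exists_max_image S (fun p => (T p).ncard) (Set.toFinite _)
    ⟨(u, v), hu, hv, huv⟩
  change u ∈ U at hu
  change v ∈ U at hv
  change h u v ≠ 0 at huv
  -- every involution of `A` acts by the same sign on `u` and `v`
  have hall : ∀ b ∈ inv1 M, (b • u = u ∧ b • v = v) ∨ (b • u = -u ∧ b • v = -v) := by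
    intro b hb
    by_contra hcon
    have hbb : ∀ w : W, b • b • w = w := fun w => by rw [← mul_smul, hb.2, one_smul]
    have hcomm : ∀ a ∈ inv1 M, ∀ w : W, a • b • w = b • a • w := fun a ha w => by
      rw [← mul_smul, M.comm a ha.1 b hb.1, mul_smul]
    have hiso : h (b • u) (b • v) = h u v := D.iso (M.le hb.1) u v
    -- one of the two projections
    have hsum : h (u + b • u) (v + b • v) + h (u - b • u) (v - b • v) = 4 * h u v := by
      simp only [map_add, map_sub, LinearMap.add_apply, LinearMap.sub_apply]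
      linear_combination 2 * hiso
    have h4 : (4 : K) ≠ 0 := by
      have : (4 : K) = 2 * 2 := by norm_num
      rw [this]; exact mul_ne_zero D.two D.two
    have key : ∀ s : K, (s = 1 ∨ s = -1) → h (u + s • b • u) (v + s • b • v) = 0 := by
      intro s hs
      by_contra hne
      have hmem : ((u + s • b • u, v + s • b • v) : W × W) ∈ S :=
        ⟨add_mem hu (U.smul_mem _ (hU b (M.le hb.1) u hu)), add_mem hv (U.smul_mem _ (hU b (M.le hb.1) v hv)), hne⟩
      have hlt : (T (u, v)).ncard < (T (u + s • b • u, v + s • b • v)).ncard := by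
        refine Set.ncard_lt_ncard ⟨?_, ?_⟩ (Set.toFinite _)
        · rintro a ⟨ha, h1⟩
          refine ⟨ha, ?_⟩
          have h2 : ∀ w : W, a • (w + s • b • w) = a • w + s • b • a • w := fun w => by
            rw [smul_add, smul_comm a s, hcomm a ha]
          rcases h1 with ⟨h1, h1'⟩ | ⟨h1, h1'⟩
          · left
            exact ⟨by rw [h2]; rw [h1],
              by rw [h2]; rw [h1']⟩
          · right
            exact ⟨by rw [h2]; rw [h1, smul_neg, smul_neg, neg_add],
              by rw [h2]; rw [h1', smul_neg, smul_neg, neg_add]⟩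
        · intro hsub
          apply hcon
          have hbT : b ∈ T (u + s • b • u, v + s • b • v) := by
            refine ⟨hb, ?_⟩
            have h2 : ∀ w : W, b • (w + s • b • w) = s • (w + s • b • w) := fun w => by
              rw [smul_add, smul_comm b s, hbb, smul_add, smul_smul]
              have : s * s = 1 := by rcases hs with h | h <;> rw [h] <;> ring
              rw [this, one_smul, add_comm]
            rcases hs with h | h
            · left
              exact ⟨by rw [h2, h, one_smul], by rw [h2, h, one_smul]⟩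
            · right
              exact ⟨by rw [h2]; nth_rewrite 1 [h]; rw [neg_smul, one_smul],
                by rw [h2]; nth_rewrite 1 [h]; rw [neg_smul, one_smul]⟩
          exact (hsub hbT).2
      exact absurd (hmax _ hmem) (not_le.2 hlt)
    have k1 := key 1 (Or.inl rfl)
    have k2 := key (-1) (Or.inr rfl)
    simp only [one_smul, neg_smul, ← sub_eq_add_neg] at k1 k2
    rw [k1, k2, add_zero] at hsum
    exact (mul_ne_zero h4 huv) hsum.symm
  have hEu : Eig A u := fun a ha ha1 => by
    rcases hall a ⟨ha, ha1⟩ with h1 | h1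
    · exact Or.inl h1.1
    · exact Or.inr h1.1
  have hEv : Eig A v := fun a ha ha1 => by
    rcases hall a ⟨ha, ha1⟩ with h1 | h1
    · exact Or.inl h1.2
    · exact Or.inr h1.2
  have hEuv : Eig A (u + v) := fun a ha ha1 => by
    rcases hall a ⟨ha, ha1⟩ with h1 | h1
    · left; rw [smul_add, h1.1, h1.2]
    · right; rw [smul_add, h1.1, h1.2, neg_add]
  -- a vector of nonzero norm
  have hw : ∃ w ∈ U, Eig A w ∧ h w w ≠ 0 := by
    by_contra hcon
    push Not at hcon
    have k1 := hcon u hu hEu
    have k2 := hcon v hv hEv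
    have k3 := hcon (u + v) (add_mem hu hv) hEuv
    simp only [map_add, LinearMap.add_apply] at k3
    rw [k1, k2, D.sym v u] at k3
    have : (2 : K) * h u v = 0 := by linear_combination k3
    exact (mul_ne_zero D.two huv) this
  obtain ⟨w, hwU, hEw, hww⟩ := hw
  obtain ⟨x, y, hxy⟩ := exists_two_sq D.two (h w w)⁻¹
  refine ⟨x • w + y • J • w, ?_, eig_comb M hEw x y, ?_⟩
  · exact add_mem (U.smul_mem _ hwU) (U.smul_mem _ (hU J D.J_mem w hwU))
  · have e1 : h w (J • w) = 0 := by rw [D.sym]; exact D.hJ_self w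
    have e2 : h (J • w) w = 0 := D.hJ_self w
    have e3 : h (J • w) (J • w) = h w w := D.hJ w w
    simp only [map_add, LinearMap.add_apply, LinearMap.map_smul, LinearMap.smul_apply, smul_eq_mul]
    rw [e1, e2, e3]
    have e4 : (h w w)⁻¹ * h w w = 1 := inv_mul_cancel₀ hww
    linear_combination (h w w) * hxy + e4

/-- an orthonormal system of eigenvectors -/
structure Sys (h : LinearMap.BilinForm K W) (NN A : Subgroup (Module.End K W)ˣ) (S : Finset W) : Prop where
  eig : ∀ v ∈ S, Eig A v
  one : ∀ v ∈ S, h v v = 1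
  orth : ∀ v ∈ S, ∀ w ∈ S, v ≠ w → ∀ n ∈ NN, h (n • v) w = 0

theorem Sys.proj_mem (D : Dat h NN J) [Fintype ↥NN] (M : MaxAb NN J A) {S : Finset W} (Y : Sys h NN A S) (u : W)
    {v : W} (hv : v ∈ S) {n : (Module.End K W)ˣ} (hn : n ∈ NN) :
    h (n • v) (kap K M • u - ∑ w ∈ S, Tr h NN (fun _ => (1 : K)) w w u) = 0 := by
  classical
  rw [map_sub, LinearMap.map_smul, map_sum, Finset.sum_eq_single v]
  · rw [← D.Tr_adj, D.Tr_self' M (Sg.one NN) (fun _ _ => rfl) (Y.eig v hv) (Y.one v hv) (Same.refl M (Y.eig v hv)) hn,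
      one_smul, LinearMap.map_smul, LinearMap.smul_apply, smul_eq_mul, sub_self]
  · intro w hw hwv
    rw [← D.Tr_adj, D.Tr_zero _ (fun m hm => Y.orth w hw v hv hwv m hm) hn, map_zero, LinearMap.zero_apply]
  · exact fun h => absurd hv h

theorem exists_sys [Finite W] [Finite K] (D : Dat h NN J) [Fintype ↥NN] (M : MaxAb NN J A) :
    ∃ S : Finset W, Sys h NN A S ∧ ∀ u : W, ∑ w ∈ S, Tr h NN (fun _ => (1 : K)) w w u = kap K M • u := by
  classical
  have hfW : Fintype W := Fintype.ofFinite W
  have hfE : Finite (Module.End K W) := Finite.of_injective (fun f => (f : W → W)) DFunLike.coe_injective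
  let T : Set (Finset W) := {S | Sys h NN A S}
  obtain ⟨S, hS, hmax⟩ := Set.exists_max_image T (fun S => S.card) (Set.toFinite _)
    ⟨∅, ⟨fun v hv => absurd hv (Finset.notMem_empty v), fun v hv => absurd hv (Finset.notMem_empty v),
      fun v hv => absurd hv (Finset.notMem_empty v)⟩⟩
  have Y : Sys h NN A S := hS
  let U : Submodule K W :=
    { carrier := {u | ∀ v ∈ S, ∀ n ∈ NN, h (n • v) u = 0}
      add_mem' := fun {a b} ha hb v hv n hn => by rw [map_add, ha v hv n hn, hb v hv n hn, add_zero]
      zero_mem' := fun v hv n hn => map_zero _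
      smul_mem' := fun c a ha v hv n hn => by rw [LinearMap.map_smul, ha v hv n hn, smul_zero] }
  have hUmem : ∀ u, u ∈ U ↔ ∀ v ∈ S, ∀ n ∈ NN, h (n • v) u = 0 := fun u => Iff.rfl
  have hU0 : ∀ u ∈ U, u = 0 := by
    intro u hu
    by_contra hu0
    have hex : ∃ y, h u y ≠ 0 := by
      by_contra hcon
      push Not at hcon
      exact hu0 (D.nd u hcon)
    obtain ⟨y, hy⟩ := hex
    have hy' : kap K M • y - ∑ w ∈ S, Tr h NN (fun _ => (1 : K)) w w y ∈ U :=
      fun v hv n hn => Y.proj_mem D M y hv hn
    have hyu : h u (kap K M • y - ∑ w ∈ S, Tr h NN (fun _ => (1 : K)) w w y) ≠ 0 := by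
      rw [map_sub, LinearMap.map_smul, map_sum, Finset.sum_eq_zero, sub_zero]
      · exact mul_ne_zero (D.kap_ne M) hy
      · intro w hw
        have h1 := D.Tr_zero (fun _ => (1 : K)) (x := w) (y := w) (w := u) (fun m hm => hu w hw m hm) (one_mem NN)
        rw [one_smul] at h1
        rw [← D.Tr_adj, h1, map_zero, LinearMap.zero_apply]
    have hUinv : ∀ n ∈ NN, ∀ u ∈ U, n • u ∈ U := by
      intro n hn u hu v hv m hm
      have h1 : h ((n⁻¹ * m) • v) u = 0 := hu v hv _ (mul_mem (inv_mem hn) hm)
      rw [← D.iso hn ((n⁻¹ * m) • v) u, ← mul_smul n, mul_inv_cancel_left] at h1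
      exact h1
    obtain ⟨v, hvU, hvE, hv1⟩ := D.exists_eig M U hUinv ⟨u, hu, _, hy', hyu⟩
    have hvS : v ∉ S := by
      intro hvS
      have h1 := hvU v hvS 1 (one_mem NN)
      rw [one_smul, hv1] at h1
      exact one_ne_zero h1
    have hbig : insert v S ∈ T := by
      refine ⟨fun w hw => ?_, fun w hw => ?_, fun w hw w' hw' hww n hn => ?_⟩
      · rcases Finset.mem_insert.1 hw with rfl | hw
        · exact hvE
        · exact Y.eig w hw
      · rcases Finset.mem_insert.1 hw with rfl | hw
        · exact hv1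
        · exact Y.one w hw
      · rcases Finset.mem_insert.1 hw with h3 | h3
        · rcases Finset.mem_insert.1 hw' with h4 | h4
          · exact absurd (h3.trans h4.symm) hww
          · have h1 := hvU w' h4 n⁻¹ (inv_mem hn)
            rw [← D.iso hn (n⁻¹ • w') v, smul_inv_smul] at h1
            rw [D.sym, h3]; exact h1
        · rcases Finset.mem_insert.1 hw' with h4 | h4
          · rw [h4]; exact hvU w h3 n hn
          · exact Y.orth w h3 w' h4 hww n hn
    have h2 := hmax _ hbig
    change (insert v S).card ≤ S.card at h2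
    rw [Finset.card_insert_of_notMem hvS] at h2
    omega
  refine ⟨S, Y, fun u => ?_⟩
  have h1 : kap K M • u - ∑ w ∈ S, Tr h NN (fun _ => (1 : K)) w w u = 0 :=
    hU0 _ fun v hv n hn => Y.proj_mem D M u hv hn
  exact (sub_eq_zero.1 h1).symm

theorem neg_ne [Nontrivial W] (D : Dat h NN J) : (-1 : (Module.End K W)ˣ) ≠ 1 := by
  intro h1
  obtain ⟨w, hw⟩ := exists_ne (0 : W)
  have h2 : (-1 : (Module.End K W)ˣ) • w = w := by rw [h1, one_smul]
  rw [Units.neg_smul, one_smul] at h2
  have h3 : (2 : K) • w = 0 := by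
    rw [two_smul]
    nth_rewrite 1 [← h2]
    exact neg_add_cancel w
  exact (smul_ne_zero D.two hw) h3

/-- the sign character `c` with `c J = -1`, trivial on the involutions of `A` -/
theorem exists_sign [Finite W] [Nontrivial W] (D : Dat h NN J) (M : MaxAb NN J A) :
    ∃ c : (Module.End K W)ˣ → K, Sg NN c ∧ c J = -1 ∧ ∀ a ∈ inv1 M, c a = 1 := by
  classical
  have hfE : Finite (Module.End K W) := Finite.of_injective (fun f => (f : W → W)) DFunLike.coe_injective
  have hneg1 : (-1 : (Module.End K W)ˣ) ∈ inv1 M := by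
    refine ⟨?_, by simp⟩
    rw [← D.J_sq]; exact mul_mem M.J_mem M.J_mem
  let s : Set (Subgroup (Module.End K W)ˣ) := {B | B ≤ NN ∧ inv1 M ≤ B ∧ J ∉ B}
  have hne : s.Nonempty := ⟨inv1 M, inv1_le M, le_refl _, fun hJ => by
    have h1 := hJ.2
    rw [D.J_sq] at h1
    exact D.neg_ne h1⟩
  obtain ⟨B, hB⟩ := s.toFinite.exists_maximal hne
  have hBN : B ≤ NN := hB.prop.1
  have hBi : inv1 M ≤ B := hB.prop.2.1
  have hBJ : J ∉ B := hB.prop.2.2
  have hnegB : ∀ g : (Module.End K W)ˣ, -g ∈ B ↔ g ∈ B := by
    have h1 : ∀ g : (Module.End K W)ˣ, g ∈ B → -g ∈ B := fun g hg => by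
      rw [← neg_one_mul]; exact mul_mem (hBi hneg1) hg
    intro g
    refine ⟨fun h2 => ?_, h1 g⟩
    have h3 := h1 _ h2
    rwa [neg_neg] at h3
  -- for `n ∉ B`, `J n ∈ B`
  have hJB : ∀ n ∈ NN, n ∉ B → J * n ∈ B := by
    intro n hn hnB
    have hcomm : ∀ g ∈ NN, g * n ∈ B → ∀ g' : (Module.End K W)ˣ, g' ∈ B → g * g' * n ∈ B := by
      intro g _ hg g' hg'
      rcases D.comm g' (hBN hg') n hn with h1 | h1
      · rw [mul_assoc, h1, ← mul_assoc]; exact mul_mem hg hg'
      · rw [mul_assoc, h1, mul_neg, ← mul_assoc, hnegB]; exact mul_mem hg hg'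
    let B' : Subgroup (Module.End K W)ˣ :=
      { carrier := {g | g ∈ NN ∧ (g ∈ B ∨ g * n ∈ B)}
        one_mem' := ⟨one_mem NN, Or.inl (one_mem B)⟩
        mul_mem' := by
          rintro a b ⟨haN, ha⟩ ⟨hbN, hb⟩
          refine ⟨mul_mem haN hbN, ?_⟩
          rcases ha with ha | ha <;> rcases hb with hb | hb
          · exact Or.inl (mul_mem ha hb)
          · right; rw [mul_assoc]; exact mul_mem ha hb
          · right; exact hcomm a haN ha b hb
          · left
            -- `a n b n = ± a b n n = ± a b`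
            have h1 : a * n * (b * n) ∈ B := mul_mem ha hb
            have h2 : a * n * (b * n) = a * (n * b) * n := by group
            rw [h2] at h1
            have h3 : a * (b * n) * n ∈ B := by
              rcases D.comm n hn b hbN with h4 | h4
              · rwa [h4] at h1
              · rw [h4, mul_neg, neg_mul, hnegB] at h1; exact h1
            have h4 : a * (b * n) * n = a * b * (n * n) := by group
            rw [h4] at h3
            rcases D.sq n hn with h5 | h5
            · rwa [h5, mul_one] at h3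
            · rw [h5, mul_neg, mul_one, hnegB] at h3; exact h3
        inv_mem' := by
          rintro a ⟨haN, ha⟩
          have h0 : a⁻¹ = a ∨ a⁻¹ = -a := by
            rcases D.sq a haN with h1 | h1
            · left; exact inv_eq_of_mul_eq_one_left h1
            · right
              refine inv_eq_of_mul_eq_one_left ?_
              rw [neg_mul, h1, neg_neg]
          refine ⟨inv_mem haN, ?_⟩
          rcases h0 with h0 | h0
          · rw [h0]; exact ha
          · rw [h0, neg_mul, hnegB, hnegB]; exact ha }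
    have hlt : B ≤ B' := fun g hg => ⟨hBN hg, Or.inl hg⟩
    have hnB' : n ∈ B' := by
      refine ⟨hn, Or.inr ?_⟩
      rcases D.sq n hn with h5 | h5
      · rw [h5]; exact one_mem B
      · rw [h5]; exact hBi hneg1
    by_contra hcon
    have hB's : B' ∈ s := ⟨fun g hg => hg.1, hBi.trans hlt, fun hJ => by
      rcases hJ.2 with h6 | h6
      · exact hBJ h6
      · exact hcon h6⟩
    exact hnB (hB.le_of_ge hB's hlt hnB')
  refine ⟨fun n => if n ∈ B then 1 else -1, ⟨fun n _ => ?_, fun n hn m hm => ?_⟩, ?_, fun a ha => ?_⟩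
  · by_cases h1 : n ∈ B
    · left; simp [h1]
    · right; simp [h1]
  · by_cases h1 : n ∈ B
    · by_cases h2 : m ∈ B
      · simp [h1, h2, mul_mem h1 h2]
      · have h3 : n * m ∉ B := fun h4 => h2 ((Subgroup.mul_mem_cancel_left B h1).1 h4)
        simp [h1, h2, h3]
    · by_cases h2 : m ∈ B
      · have h3 : n * m ∉ B := fun h4 => h1 ((Subgroup.mul_mem_cancel_right B h2).1 h4)
        simp [h1, h2, h3]
      · have h3 : n * m ∈ B := by
          have h4 := mul_mem (hJB n hn h1) (hJB m hm h2)
          have h5 : J * n * (J * m) = J * (n * J) * m := by group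
          have h6 : J * (J * n) * m = (J * J) * (n * m) := by group
          rw [h5, D.cen n hn, h6, D.J_sq, neg_mul, one_mul, hnegB] at h4
          exact h4
        simp [h1, h2, h3]
  · simp [hBJ]
  · simp [hBi ha]

end Dat

end Cfsg.Agent.H527.C3
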