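import Cfsg.Agent.H527.C3.Iso

/-!
# S1920, classical groups, section 4: traces (helper527)

`Tr c v' v = Σ_{n ∈ NN} c(n) ⟨n v, ·⟩ n v'`.
-/

set_option autoImplicit false

open Subgroup

namespace Cfsg.Agent.H527.C3

variable {K W : Type*} [Field K] [AddCommGroup W] [Module K W]

namespace Dat

variable {h : LinearMap.BilinForm K W} {NN : Subgroup (Module.End K W)ˣ} {J : (Module.End K W)ˣ}
variable {A : Subgroup (Module.End K W)ˣ}

/-- the involutions of `A` -/
def inv1 (M : MaxAb NN J A) : Subgroup (Module.End K W)ˣ where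
  carrier := {a | a ∈ A ∧ a * a = 1}
  one_mem' := ⟨one_mem A, one_mul 1⟩
  mul_mem' := by
    rintro a b ⟨ha, ha1⟩ ⟨hb, hb1⟩
    refine ⟨mul_mem ha hb, ?_⟩
    calc a * b * (a * b) = a * (b * a) * b := by group
      _ = a * (a * b) * b := by rw [M.comm b hb a ha]
      _ = (a * a) * (b * b) := by group
      _ = 1 := by rw [ha1, hb1, one_mul]
  inv_mem' := by
    rintro a ⟨ha, ha1⟩
    refine ⟨inv_mem ha, ?_⟩
    rw [← mul_inv_rev, ha1, inv_one]

theorem mem_inv1 (M : MaxAb NN J A) {a : (Module.End K W)ˣ} : a ∈ inv1 M ↔ a ∈ A ∧ a * a = 1 := Iff.rfl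

theorem inv1_le (M : MaxAb NN J A) : inv1 M ≤ NN := fun _ ha => M.le ha.1

/-- the number of involutions of `A`, in `K` -/
noncomputable def kap (K : Type*) {W : Type*} [Field K] [AddCommGroup W] [Module K W]
    {NN : Subgroup (Module.End K W)ˣ} {J : (Module.End K W)ˣ} {A : Subgroup (Module.End K W)ˣ}
    (M : MaxAb NN J A) : K := (Nat.card (inv1 M) : K)

theorem kap_ne (D : Dat h NN J) [Finite (Module.End K W)ˣ] (M : MaxAb NN J A) : kap K M ≠ 0 := by
  have h1 : IsPGroup 2 (inv1 M) := by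
    intro a
    refine ⟨1, Subtype.ext ?_⟩
    rw [pow_one]
    change (a : (Module.End K W)ˣ) ^ 2 = 1
    rw [pow_two]
    exact a.2.2
  obtain ⟨k, hk⟩ := (IsPGroup.iff_card (p := 2)).1 h1
  rw [kap, hk, Nat.cast_pow]
  exact pow_ne_zero _ (by exact_mod_cast D.two)

open scoped Classical in
/-- **Key formula**. -/
theorem key_sum (D : Dat h NN J) [Fintype ↥NN] (M : MaxAb NN J A) {v : W} (hv : Eig A v)
    {X : Type*} [AddCommGroup X] [Module K X] (F : (Module.End K W)ˣ → X) (x : X)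
    (hF : ∀ a ∈ inv1 M, h (a • v) v • F a = x) :
    ∑ n : ↥NN, h ((n : (Module.End K W)ˣ) • v) v • F n = kap K M • x := by
  have h1 : ∀ n : ↥NN, h ((n : (Module.End K W)ˣ) • v) v • F n = if (n : (Module.End K W)ˣ) ∈ inv1 M then x else 0 := by
    intro n
    split_ifs with hn
    · exact hF n hn
    · rw [D.h_zero M hv n.2 hn, zero_smul]
  rw [Finset.sum_congr rfl fun n _ => h1 n, Finset.sum_ite, Finset.sum_const, Finset.sum_const_zero, add_zero]
  have h2 : (Finset.univ.filter fun n : ↥NN => (n : (Module.End K W)ˣ) ∈ inv1 M).card = Nat.card (inv1 M) := by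
    have h3 : Nat.card (inv1 M) = Nat.card ↥((inv1 M).subgroupOf NN) :=
      (Nat.card_congr (subgroupOfEquivOfLe (inv1_le M)).toEquiv).symm
    rw [h3, Nat.card_eq_fintype_card, Fintype.card_subtype]
    congr 1
  rw [h2, kap, Nat.cast_smul_eq_nsmul]

/-- two eigenvectors with the same character -/
def Same (M : MaxAb NN J A) (v w : W) : Prop := ∀ a ∈ inv1 M, (a • v = v ∧ a • w = w) ∨ (a • v = -v ∧ a • w = -w)

theorem Same.refl (M : MaxAb NN J A) {v : W} (hv : Eig A v) : Same M v v := by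
  intro a ha
  rcases hv a ha.1 ha.2 with h | h
  · exact Or.inl ⟨h, h⟩
  · exact Or.inr ⟨h, h⟩

/-- `Tr c x y = Σ_{n ∈ NN} c(n) ⟨n y, ·⟩ n x` -/
noncomputable def Tr (h : LinearMap.BilinForm K W) (NN : Subgroup (Module.End K W)ˣ) [Fintype ↥NN]
    (c : (Module.End K W)ˣ → K) (x y : W) : Module.End K W :=
  ∑ n : ↥NN, c n • rk h ((n : (Module.End K W)ˣ) • x) ((n : (Module.End K W)ˣ) • y)

theorem Tr_apply [Fintype ↥NN] (c : (Module.End K W)ˣ → K) (x y u : W) :
    Tr h NN c x y u = ∑ n : ↥NN, (c n * h ((n : (Module.End K W)ˣ) • y) u) • ((n : (Module.End K W)ˣ) • x) := by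
  rw [Tr, LinearMap.sum_apply]
  refine Finset.sum_congr rfl fun n _ => ?_
  rw [LinearMap.smul_apply, rk_apply, smul_smul]

/-- a sign character of `NN` -/
structure Sg (NN : Subgroup (Module.End K W)ˣ) (c : (Module.End K W)ˣ → K) : Prop where
  val : ∀ n ∈ NN, c n = 1 ∨ c n = -1
  mul : ∀ n ∈ NN, ∀ m ∈ NN, c (n * m) = c n * c m

theorem Sg.one (NN : Subgroup (Module.End K W)ˣ) : Sg NN (fun _ => (1 : K)) :=
  ⟨fun _ _ => Or.inl rfl, fun _ _ _ _ => (one_mul 1).symm⟩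

theorem Sg.sq {c : (Module.End K W)ˣ → K} (S : Sg NN c) {n : (Module.End K W)ˣ} (hn : n ∈ NN) : c n * c n = 1 := by
  rcases S.val n hn with h | h <;> rw [h] <;> ring

theorem Tr_smul (D : Dat h NN J) [Fintype ↥NN] {c : (Module.End K W)ˣ → K} (S : Sg NN c) (x y : W)
    {m : (Module.End K W)ˣ} (hm : m ∈ NN) (u : W) :
    Tr h NN c x y (m • u) = c m • (m • Tr h NN c x y u) := by
  rw [Tr_apply, Tr_apply, Finset.smul_sum, Finset.smul_sum]
  refine (Fintype.sum_equiv (Equiv.mulLeft (⟨m, hm⟩ : ↥NN)) _ _ fun n => ?_).symm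
  change c m • m • (c n * h ((n : (Module.End K W)ˣ) • y) u) • ((n : (Module.End K W)ˣ) • x) =
    (c (m * n) * h ((m * n) • y) (m • u)) • ((m * n) • x)
  rw [S.mul m hm n n.2, mul_smul m (n : (Module.End K W)ˣ) y, mul_smul m (n : (Module.End K W)ˣ) x, D.iso hm,
    smul_comm m, smul_smul]
  congr 1
  ring

theorem Tr_adj (D : Dat h NN J) [Fintype ↥NN] (c : (Module.End K W)ˣ → K) (x y u w : W) :
    h (Tr h NN c x y u) w = h u (Tr h NN c y x w) := by
  rw [Tr_apply, Tr_apply, map_sum, LinearMap.sum_apply, map_sum]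
  refine Finset.sum_congr rfl fun n _ => ?_
  rw [LinearMap.map_smul, LinearMap.smul_apply, LinearMap.map_smul, smul_eq_mul, smul_eq_mul,
    D.sym u ((n : (Module.End K W)ˣ) • y)]
  ring

theorem Tr_self (D : Dat h NN J) [Fintype ↥NN] (M : MaxAb NN J A) {c : (Module.End K W)ˣ → K}
    (hc : ∀ a ∈ inv1 M, c a = 1) {v w : W} (hv : Eig A v) (hv1 : h v v = 1) (hvw : Same M v w) :
    Tr h NN c w v v = kap K M • w := by
  rw [Tr_apply]
  have h1 := D.key_sum M hv (fun n => c n • (n • w)) w (by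
    intro a ha
    rw [hc a ha, one_smul]
    rcases hvw a ha with ⟨h2, h3⟩ | ⟨h2, h3⟩
    · rw [h2, h3, hv1, one_smul]
    · rw [h2, h3, map_neg, LinearMap.neg_apply, hv1, neg_smul, one_smul, neg_neg])
  rw [← h1]
  refine Finset.sum_congr rfl fun n _ => ?_
  rw [smul_smul, mul_comm]

theorem Tr_self' (D : Dat h NN J) [Fintype ↥NN] (M : MaxAb NN J A) {c : (Module.End K W)ˣ → K} (S : Sg NN c)
    (hc : ∀ a ∈ inv1 M, c a = 1) {v w : W} (hv : Eig A v) (hv1 : h v v = 1) (hvw : Same M v w)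
    {m : (Module.End K W)ˣ} (hm : m ∈ NN) :
    Tr h NN c w v (m • v) = kap K M • c m • (m • w) := by
  rw [D.Tr_smul S _ _ hm, D.Tr_self M hc hv hv1 hvw, smul_comm m, smul_comm (c m)]

theorem Tr_zero (D : Dat h NN J) [Fintype ↥NN] (c : (Module.End K W)ˣ → K) {x y w : W}
    (hw : ∀ n ∈ NN, h (n • y) w = 0) {m : (Module.End K W)ˣ} (hm : m ∈ NN) :
    Tr h NN c x y (m • w) = 0 := by
  rw [Tr_apply]
  refine Finset.sum_eq_zero fun n _ => ?_
  have h1 : h ((n : (Module.End K W)ˣ) • y) (m • w) = 0 := by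
    rw [← hw (m⁻¹ * n) (mul_mem (inv_mem hm) n.2), ← D.iso hm ((m⁻¹ * (n : (Module.End K W)ˣ)) • y) w,
      ← mul_smul m, mul_inv_cancel_left]
  rw [h1, mul_zero, zero_smul]

end Dat

end Cfsg.Agent.H527.C3
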