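import Cfsg.Agent.H527.C3.Cen

/-!
# S1920, classical groups, section 4: two planes with the same character (helper527)

`Full.R` : `m v₁ ↦ m v₂ ↦ - m v₁`.  `Full.twist` : `g T R = D T R g` with `D ∈ K[J]`.
`Full.perfect_comm` : a perfect subgroup of the centralizer commutes with `T R`.
-/

set_option autoImplicit false

open Subgroup

namespace Cfsg.Agent.H527.C3

variable {K W : Type*} [Field K] [AddCommGroup W] [Module K W]

namespace Full

variable {h : LinearMap.BilinForm K W} {NN : Subgroup (Module.End K W)ˣ} [Fintype ↥NN] {J : (Module.End K W)ˣ}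
variable {A : Subgroup (Module.End K W)ˣ} {S : Finset W} {c : (Module.End K W)ˣ → K}

/-- the rotation `m v₁ ↦ m v₂ ↦ - m v₁` -/
noncomputable def R (F : Full h NN J A S c) (v₁ v₂ : W) : Module.End K W :=
  F.op (fun _ => 1) v₂ v₁ - F.op (fun _ => 1) v₁ v₂

theorem R_one (F : Full h NN J A S c) {v₁ v₂ : W} (h1 : v₁ ∈ S) (h2 : v₂ ∈ S) (hne : v₁ ≠ v₂)
    (hs : Dat.Same F.M v₁ v₂) {m : (Module.End K W)ˣ} (hm : m ∈ NN) : F.R v₁ v₂ (m • v₁) = m • v₂ := by
  rw [R, LinearMap.sub_apply, F.op_self (Dat.Sg.one NN) (fun _ _ => rfl) h1 hs hm,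
    F.op_other _ h2 h1 (Ne.symm hne) hm, one_smul, sub_zero]

theorem R_two (F : Full h NN J A S c) {v₁ v₂ : W} (h1 : v₁ ∈ S) (h2 : v₂ ∈ S) (hne : v₁ ≠ v₂)
    (hs : Dat.Same F.M v₁ v₂) {m : (Module.End K W)ˣ} (hm : m ∈ NN) : F.R v₁ v₂ (m • v₂) = -(m • v₁) := by
  rw [R, LinearMap.sub_apply, F.op_self (Dat.Sg.one NN) (fun _ _ => rfl) h2 (F.same_symm hs) hm,
    F.op_other _ h1 h2 hne hm, one_smul, zero_sub]

theorem R_adj (F : Full h NN J A S c) (v₁ v₂ u w : W) : h (F.R v₁ v₂ u) w = - h u (F.R v₁ v₂ w) := by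
  rw [R, LinearMap.sub_apply, LinearMap.sub_apply, map_sub, LinearMap.sub_apply, map_sub, F.op_adj, F.op_adj]
  ring

theorem R_smul (F : Full h NN J A S c) (v₁ v₂ : W) {m : (Module.End K W)ˣ} (hm : m ∈ NN) (u : W) :
    F.R v₁ v₂ (m • u) = m • F.R v₁ v₂ u := by
  rw [R, LinearMap.sub_apply, LinearMap.sub_apply, F.op_smul (Dat.Sg.one NN) _ _ hm,
    F.op_smul (Dat.Sg.one NN) _ _ hm, one_smul, one_smul, smul_sub]

/-- two planes with the same character -/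
structure Two (F : Full h NN J A S c) (v₁ v₂ : W) : Prop where
  m1 : v₁ ∈ S
  m2 : v₂ ∈ S
  ne : v₁ ≠ v₂
  same : Dat.Same F.M v₁ v₂
  all : ∀ v ∈ S, v = v₁ ∨ v = v₂

theorem R_sq (F : Full h NN J A S c) {v₁ v₂ : W} (X : F.Two v₁ v₂) : F.R v₁ v₂ * F.R v₁ v₂ = -1 := by
  refine F.ext fun w hw m hm => ?_
  rw [Module.End.mul_apply, LinearMap.neg_apply, Module.End.one_apply]
  rcases X.all w hw with rfl | rfl
  · rw [F.R_one X.m1 X.m2 X.ne X.same hm, F.R_two X.m1 X.m2 X.ne X.same hm]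
  · rw [F.R_two X.m1 X.m2 X.ne X.same hm, map_neg, F.R_one X.m1 X.m2 X.ne X.same hm]

/-- `R` as a unit -/
noncomputable def Ru (F : Full h NN J A S c) {v₁ v₂ : W} (X : F.Two v₁ v₂) : (Module.End K W)ˣ :=
  ⟨F.R v₁ v₂, -F.R v₁ v₂, by rw [mul_neg, F.R_sq X, neg_neg], by rw [neg_mul, F.R_sq X, neg_neg]⟩

theorem Ru_smul (F : Full h NN J A S c) {v₁ v₂ : W} (X : F.Two v₁ v₂) (u : W) : F.Ru X • u = F.R v₁ v₂ u := rfl

theorem Ru_iso (F : Full h NN J A S c) {v₁ v₂ : W} (X : F.Two v₁ v₂) : F.Ru X ∈ isoms h := by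
  intro u v
  rw [Ru_smul, Ru_smul, F.R_adj, ← Module.End.mul_apply, F.R_sq X, LinearMap.neg_apply, Module.End.one_apply,
    map_neg, neg_neg]

theorem Ru_comm (F : Full h NN J A S c) {v₁ v₂ : W} (X : F.Two v₁ v₂) {m : (Module.End K W)ˣ} (hm : m ∈ NN) :
    F.Ru X * m = m * F.Ru X :=
  Units.ext (LinearMap.ext fun u => F.R_smul v₁ v₂ hm u)

/-- the image of `v` under an element of the centralizer -/
theorem cen_apply (F : Full h NN J A S c) {v₁ v₂ : W} (X : F.Two v₁ v₂) {g : (Module.End K W)ˣ} (hg : g ∈ cen h NN)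
    {v : W} (hv : v ∈ S) :
    ∃ x y x' y' : K, g • v = x • v₁ + y • J • v₁ + (x' • v₂ + y' • J • v₂) := by
  classical
  have hs := F.cen_same hg hv
  have h1 : Dat.Same F.M v₁ (g • v) := by
    rcases X.all v hv with rfl | rfl
    · exact hs
    · exact F.same_trans X.same hs (F.ne_zero X.m2)
  have h2 : Dat.Same F.M v₂ (g • v) := by
    rcases X.all v hv with rfl | rfl
    · exact F.same_trans (F.same_symm X.same) hs (F.ne_zero X.m1)
    · exact hs
  have h3 := F.sum_E (g • v)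
  have hS : S = {v₁, v₂} := by
    ext w
    rw [Finset.mem_insert, Finset.mem_singleton]
    constructor
    · exact X.all w
    · rintro (rfl | rfl)
      · exact X.m1
      · exact X.m2
  have h4' : ∀ f : W → W, ∑ w ∈ S, f w = f v₁ + f v₂ := fun f => by
    rw [hS]
    exact Finset.sum_pair X.ne
  have h4 : ∑ w ∈ S, F.E w (g • v) = F.E v₁ (g • v) + F.E v₂ (g • v) := h4' fun w => F.E w (g • v)
  rw [h4, F.E_same X.m1 h1, F.E_same X.m2 h2] at h3
  exact ⟨_, _, _, _, h3.symm⟩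

/-- **twisted commutation** -/
theorem twist (F : Full h NN J A S c) {v₁ v₂ : W} (X : F.Two v₁ v₂) {g : (Module.End K W)ˣ} (hg : g ∈ cen h NN) :
    ∃ x y : K, ∀ u : W, g • F.T (F.R v₁ v₂ u) =
      x • F.T (F.R v₁ v₂ (g • u)) + y • J • F.T (F.R v₁ v₂ (g • u)) := by
  obtain ⟨a1, a2, b1, b2, hg1⟩ := F.cen_apply X hg X.m1
  obtain ⟨c1, c2, d1, d2, hg2⟩ := F.cen_apply X hg X.m2
  -- the form on the planes
  have o1 : h v₁ v₁ = 1 := F.Y.one _ X.m1
  have o2 : h v₂ v₂ = 1 := F.Y.one _ X.m2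
  have z1 : h (J • v₁) v₁ = 0 := F.D.hJ_self _
  have z2 : h (J • v₂) v₂ = 0 := F.D.hJ_self _
  have z1' : h v₁ (J • v₁) = 0 := by rw [F.D.sym, z1]
  have z2' : h v₂ (J • v₂) = 0 := by rw [F.D.sym, z2]
  have p1 : h (J • v₁) (J • v₁) = 1 := by rw [F.D.hJ, o1]
  have p2 : h (J • v₂) (J • v₂) = 1 := by rw [F.D.hJ, o2]
  have q1 : h v₁ v₂ = 0 := by
    have := F.Y.orth _ X.m1 _ X.m2 X.ne 1 (one_mem NN)
    rwa [one_smul] at this
  have q1' : h v₂ v₁ = 0 := by rw [F.D.sym, q1]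
  have q2 : h (J • v₁) v₂ = 0 := F.Y.orth _ X.m1 _ X.m2 X.ne J F.D.J_mem
  have q2' : h v₂ (J • v₁) = 0 := by rw [F.D.sym, q2]
  have q3 : h (J • v₂) v₁ = 0 := F.Y.orth _ X.m2 _ X.m1 (Ne.symm X.ne) J F.D.J_mem
  have q3' : h v₁ (J • v₂) = 0 := by rw [F.D.sym, q3]
  have q4 : h (J • v₁) (J • v₂) = 0 := by rw [F.D.hJ, q1]
  have q4' : h (J • v₂) (J • v₁) = 0 := by rw [F.D.hJ, q1']
  have hgi := (mem_cen.1 hg).1
  have hgJ : ∀ u : W, g • J • u = J • g • u := fun u => by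
    rw [← mul_smul, ← (mem_cen.1 hg).2 J F.D.J_mem, mul_smul]
  have hJc : ∀ (k : K) (u : W), J • k • u = k • J • u := fun k u => smul_comm J k u
  have N1 : a1 ^ 2 + a2 ^ 2 + b1 ^ 2 + b2 ^ 2 = 1 := by
    have h1 := hgi v₁ v₁
    rw [hg1, o1] at h1
    simp only [map_add, LinearMap.add_apply, LinearMap.map_smul, LinearMap.smul_apply, smul_eq_mul, o1, o2, z1, z2,
      z1', z2', p1, p2, q1, q1', q2, q2', q3, q3', q4, q4'] at h1
    linear_combination h1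
  have N2 : c1 ^ 2 + c2 ^ 2 + d1 ^ 2 + d2 ^ 2 = 1 := by
    have h1 := hgi v₂ v₂
    rw [hg2, o2] at h1
    simp only [map_add, LinearMap.add_apply, LinearMap.map_smul, LinearMap.smul_apply, smul_eq_mul, o1, o2, z1, z2,
      z1', z2', p1, p2, q1, q1', q2, q2', q3, q3', q4, q4'] at h1
    linear_combination h1
  have R1 : a1 * c1 + a2 * c2 + b1 * d1 + b2 * d2 = 0 := by
    have h1 := hgi v₁ v₂
    rw [hg1, hg2, q1] at h1
    simp only [map_add, LinearMap.add_apply, LinearMap.map_smul, LinearMap.smul_apply, smul_eq_mul, o1, o2, z1, z2,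
      z1', z2', p1, p2, q1, q1', q2, q2', q3, q3', q4, q4'] at h1
    linear_combination h1
  have R2 : -a1 * c2 + a2 * c1 - b1 * d2 + b2 * d1 = 0 := by
    have h1 := hgi v₁ (J • v₂)
    rw [hgJ, hg1, hg2, q3'] at h1
    simp only [smul_add, hJc, F.D.JJ, map_add, map_neg, LinearMap.add_apply, LinearMap.map_smul,
      LinearMap.smul_apply, smul_eq_mul, o1, o2, z1, z2, z1', z2', p1, p2, q1, q1', q2, q2', q3, q3', q4, q4'] at h1
    linear_combination h1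
  obtain ⟨D1, hD1⟩ : ∃ D1 : K, D1 = a1 * d1 - a2 * d2 - b1 * c1 + b2 * c2 := ⟨_, rfl⟩
  obtain ⟨D2, hD2⟩ : ∃ D2 : K, D2 = a1 * d2 + a2 * d1 - b1 * c2 - b2 * c1 := ⟨_, rfl⟩
  have e1 : D1 * a1 + D2 * a2 = d1 := by rw [hD1, hD2]; linear_combination d1 * N1 - b1 * R1 - b2 * R2
  have e2 : -D1 * a2 + D2 * a1 = d2 := by rw [hD1, hD2]; linear_combination d2 * N1 + b1 * R2 - b2 * R1
  have e3 : -D1 * b1 - D2 * b2 = c1 := by rw [hD1, hD2]; linear_combination c1 * N1 - a1 * R1 - a2 * R2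
  have e4 : D1 * b2 - D2 * b1 = c2 := by rw [hD1, hD2]; linear_combination c2 * N1 + a1 * R2 - a2 * R1
  have f1 : D1 * d1 + D2 * d2 = a1 := by rw [hD1, hD2]; linear_combination a1 * N2 - c1 * R1 + c2 * R2
  have f2 : -D1 * d2 + D2 * d1 = a2 := by rw [hD1, hD2]; linear_combination a2 * N2 - c2 * R1 - c1 * R2
  have f3 : -D1 * c1 - D2 * c2 = b1 := by rw [hD1, hD2]; linear_combination b1 * N2 - d1 * R1 + d2 * R2
  have f4 : D1 * c2 - D2 * c1 = b2 := by rw [hD1, hD2]; linear_combination b2 * N2 - d2 * R1 - d1 * R2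
  -- the values of `T R`
  have t1 : F.T (F.R v₁ v₂ v₁) = v₂ := by
    have h1 := F.R_one X.m1 X.m2 X.ne X.same (one_mem NN)
    have h2 := F.T_self X.m2 (one_mem NN)
    have hc1 : c 1 = 1 := F.cA 1 (one_mem _)
    rw [one_smul, one_smul] at h1
    rw [one_smul, hc1, one_smul] at h2
    rw [h1, h2]
  have t2 : F.T (F.R v₁ v₂ v₂) = -v₁ := by
    have h1 := F.R_two X.m1 X.m2 X.ne X.same (one_mem NN)
    have h2 := F.T_self X.m1 (one_mem NN)
    have hc1 : c 1 = 1 := F.cA 1 (one_mem _)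
    rw [one_smul, one_smul] at h1
    rw [one_smul, hc1, one_smul] at h2
    rw [h1, map_neg, h2]
  have tm : ∀ m ∈ NN, ∀ u : W, F.T (F.R v₁ v₂ (m • u)) = c m • m • F.T (F.R v₁ v₂ u) := by
    intro m hm u
    rw [F.R_smul v₁ v₂ hm, F.T_smul hm]
  have tJ : ∀ u : W, F.T (F.R v₁ v₂ (J • u)) = -(J • F.T (F.R v₁ v₂ u)) := by
    intro u
    rw [tm J F.D.J_mem, F.cJ, neg_smul, one_smul]
  have hgm : ∀ m ∈ NN, ∀ u : W, g • m • u = m • g • u := fun m hm u => by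
    rw [← mul_smul, ← (mem_cen.1 hg).2 m hm, mul_smul]
  have tg : ∀ (x y x' y' : K), F.T (F.R v₁ v₂ (x • v₁ + y • J • v₁ + (x' • v₂ + y' • J • v₂))) =
      x • v₂ + -(y • J • v₂) + (-(x' • v₁) + y' • J • v₁) := by
    intro x y x' y'
    simp only [map_add, LinearMap.map_smul, tJ, t1, t2, smul_neg, neg_neg]
  refine ⟨D1, D2, fun u => ?_⟩
  have hext : (g : Module.End K W) ∘ₗ F.T ∘ₗ F.R v₁ v₂ =
      (D1 • (1 : Module.End K W) + D2 • (J : Module.End K W)) ∘ₗ F.T ∘ₗ F.R v₁ v₂ ∘ₗ (g : Module.End K W) := by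
    refine F.ext fun v hv m hm => ?_
    change g • F.T (F.R v₁ v₂ (m • v)) = D1 • F.T (F.R v₁ v₂ (g • m • v)) + D2 • J • F.T (F.R v₁ v₂ (g • m • v))
    rw [hgm m hm, tm m hm, tm m hm]
    have hJm : J • m • F.T (F.R v₁ v₂ (g • v)) = m • J • F.T (F.R v₁ v₂ (g • v)) := by
      rw [← mul_smul, ← F.D.cen m hm, mul_smul]
    rw [hJc (c m), hJm, smul_comm D1 (c m), smul_comm D2 (c m), smul_comm g (c m), ← smul_add, hgm m hm,
      smul_comm D1 m, smul_comm D2 m, ← smul_add]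
    congr 2
    rcases X.all v hv with rfl | rfl
    · rw [t1, hg2, hg1, tg]
      rw [← e1, ← e2, ← e3, ← e4]
      simp only [smul_add, hJc, smul_neg, F.D.JJ]
      generalize J • v = w₁
      generalize J • v₂ = w₂
      module
    · rw [t2, smul_neg, hg1, hg2, tg]
      rw [← f1, ← f2, ← f3, ← f4]
      simp only [smul_add, hJc, smul_neg, F.D.JJ]
      generalize J • v = w₁
      generalize J • v₁ = w₂
      module
  have h1 := congrArg (fun f : Module.End K W => f u) hext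
  exact h1

end Full

end Cfsg.Agent.H527.C3
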